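import Mathlib
import Groth.Prelude
import Groth.Agent.H4.Fitting4

set_option autoImplicit false
universe u

namespace Groth.Agent.H8.FittExt

open Groth.Agent.H4.Fitting

variable {R : Type u} [CommRing R] {M : Type u} [AddCommGroup M] [Module R M]

/-- the ideal of `s × s` minors of relation matrices, computed from a spanning family of
relations. -/
theorem Mi_eq_span_minors {n : ℕ} (x : Fin n → M) {κ : Type*} [Fintype κ]
    (rel : κ → Fin n → R)
    (hrel : ∀ z : Fin n → R, (∑ i, z i • x i = 0) ↔ z ∈ Submodule.span R (Set.range rel))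
    (s : ℕ) :
    (Mi x s : Ideal R) = Ideal.span {d | ∃ (ρ : Fin s → κ) (e : Fin s → Fin n),
      d = (Matrix.of fun a b => rel (ρ b) (e a)).det} := by
  classical
  apply le_antisymm
  · refine Ideal.span_le.mpr ?_
    rintro d ⟨z, e, hz, rfl⟩
    have hz' : ∀ b, ∃ c : κ → R, ∑ j, c j • rel j = z b := fun b =>
      (Submodule.mem_span_range_iff_exists_fun R).mp ((hrel (z b)).mp (hz b))
    choose lam hlam using hz'
    have h1 : (Matrix.of fun a b => z b (e a)).det =
        (Matrix.detRowAlternating (R := R) (n := Fin s)).toMultilinearMap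
          (fun b : Fin s => fun a : Fin s => z b (e a)) := by
      rw [← Matrix.det_transpose]
      rfl
    have h2 : (fun b : Fin s => fun a : Fin s => z b (e a)) =
        fun b => ∑ j, lam b j • (fun a : Fin s => rel j (e a)) := by
      funext b a
      rw [← hlam b, Finset.sum_apply, Finset.sum_apply]
      rfl
    rw [SetLike.mem_coe, h1, h2, MultilinearMap.map_sum]
    refine Ideal.sum_mem _ fun ρ _ => ?_
    rw [MultilinearMap.map_smul_univ, smul_eq_mul]
    refine Ideal.mul_mem_left _ _ (Ideal.subset_span ⟨ρ, e, ?_⟩)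
    have h3 : (Matrix.of fun a b => rel (ρ b) (e a)).det =
        (Matrix.detRowAlternating (R := R) (n := Fin s)).toMultilinearMap
          (fun b : Fin s => fun a : Fin s => rel (ρ b) (e a)) := by
      rw [← Matrix.det_transpose]
      rfl
    exact h3.symm
  · refine Ideal.span_le.mpr ?_
    rintro d ⟨ρ, e, rfl⟩
    exact Ideal.subset_span ⟨fun b => rel (ρ b), e,
      fun b => (hrel _).mpr (Submodule.subset_span ⟨ρ b, rfl⟩), rfl⟩

/-- Fitting ideals computed from a spanning family of relations. -/
theorem fitt_eq_span_minors {n : ℕ} (x : Fin n → M)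
    (hx : Submodule.span R (Set.range x) = ⊤) {κ : Type*} [Fintype κ]
    (rel : κ → Fin n → R)
    (hrel : ∀ z : Fin n → R, (∑ i, z i • x i = 0) ↔ z ∈ Submodule.span R (Set.range rel))
    (k s : ℕ) (hk : n - k = s) :
    Fitt.ideal R M k = Ideal.span {d | ∃ (ρ : Fin s → κ) (e : Fin s → Fin n),
      d = (Matrix.of fun a b => rel (ρ b) (e a)).det} := by
  rw [ideal_eq_Mi k x hx, hk]
  exact Mi_eq_span_minors x rel hrel s

end Groth.Agent.H8.FittExt
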