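import Mathlib
import Groth.Prelude
import Groth.Agent.S15821
import Groth.Agent.Lib.Helper8.KosLoc.ClaimA
import Groth.Agent.Lib.Helper5.KosCot.A
import Groth.Agent.Lib.Helper8.H1LCI.Main
import Groth.Agent.Lib.Helper8.T1BC.Ext1
import Groth.Agent.Lib.Helper8.FittExt.Minors

/-!
# `Fitt_{r-c}(Ω_B) = Fitt_0(Ext¹(Ω_B, B))` for a reduced complete intersection (S16187)
-/

set_option autoImplicit false
universe u
open CategoryTheory

namespace Groth.Agent.H8.FittExt

open MvPolynomial Module

section pres

variable (k : Type u) [Field k] (r c : ℕ) (B : Type u) [CommRing B] [Algebra k B]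
    (φ : MvPolynomial (Fin r) k →ₐ[k] B) (hφ : Function.Surjective φ)
    (a : Fin c → MvPolynomial (Fin r) k)
    (ha : RingTheory.Sequence.IsRegular (MvPolynomial (Fin r) k) (List.ofFn a))
    (hker : RingHom.ker φ.toRingHom = Ideal.span (Set.range a))

include hφ ha hker in
theorem isLCI_of_regular_presentation : LCI.IsLCI k B := by
  refine ⟨Algebra.FiniteType.of_surjective φ hφ, r, φ, hφ, ?_⟩
  have h1 : LCI.IsKoszulRegularSeq _ (List.ofFn a) :=
    (Groth.Agent.S15821.result _ _ ha.toIsWeaklyRegular).1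
  have h2 := Groth.Agent.H8.KosLoc.isKoszulRegularIdeal_ofList _ h1
  have h3 : Ideal.ofList (List.ofFn a) = Ideal.span (Set.range a) := by
    unfold Ideal.ofList
    congr 1
    ext x
    simp [List.mem_ofFn]
  rw [hker, ← h3]
  exact h2

end pres

theorem mem_smoothLocus_of_minimal (k : Type u) [Field k] [PerfectField k] (B : Type u)
    [CommRing B] [Algebra k B] [Algebra.FiniteType k B] [IsReduced B] (𝔓 : PrimeSpectrum B)
    (hmin : 𝔓.asIdeal ∈ minimalPrimes B) : 𝔓 ∈ Algebra.smoothLocus k B := by
  show Algebra.FormallySmooth k (Localization.AtPrime 𝔓.asIdeal)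
  haveI : Ring.KrullDimLE 0 (Localization.AtPrime 𝔓.asIdeal) :=
    Ring.KrullDimLE.of_isLocalization 𝔓.asIdeal hmin _
  have hf : IsField (Localization.AtPrime 𝔓.asIdeal) := Ring.KrullDimLE.isField_of_isReduced
  letI := hf.toField
  exact Algebra.FormallySmooth.of_perfectField

section main

variable (k : Type u) [Field k] [PerfectField k] (r c : ℕ) (B : Type u) [CommRing B]
    [Algebra k B] [IsReduced B]
    (φ : MvPolynomial (Fin r) k →ₐ[k] B) (hφ : Function.Surjective φ)
    (a : Fin c → MvPolynomial (Fin r) k)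
    (ha : RingTheory.Sequence.IsRegular (MvPolynomial (Fin r) k) (List.ofFn a))
    (hker : RingHom.ker φ.toRingHom = Ideal.span (Set.range a))

include hφ ha hker in
theorem main :
    Fitt.ideal B (KaehlerDifferential k B) (r - c) =
      Fitt.ideal B
        (Abelian.Ext.{u} (ModuleCat.of B (KaehlerDifferential k B)) (ModuleCat.of B B) 1) 0 := by
  rcases subsingleton_or_nontrivial B with hsub | hnt
  · refine Ideal.ext fun x => ?_
    rw [Subsingleton.elim x 0]
    exact ⟨fun _ => Ideal.zero_mem _, fun _ => Ideal.zero_mem _⟩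
  have hlci : LCI.IsLCI k B := isLCI_of_regular_presentation k r c B φ hφ a ha hker
  haveI : Algebra.FiniteType k B := hlci.1
  haveI : IsNoetherianRing B := Algebra.FiniteType.isNoetherianRing k B
  have hgs : ∀ 𝔓 : PrimeSpectrum B,
      (∀ 𝔔 : PrimeSpectrum B, 𝔔 ≤ 𝔓 →
          𝔔.asIdeal.comap (algebraMap k B) = 𝔓.asIdeal.comap (algebraMap k B) → 𝔔 = 𝔓) →
        𝔓 ∈ Algebra.smoothLocus k B := by
    intro 𝔓 h
    apply mem_smoothLocus_of_minimal
    refine ⟨⟨𝔓.isPrime, bot_le⟩, fun 𝔮 h𝔮 hle => ?_⟩
    haveI := h𝔮.1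
    have h1 := h ⟨𝔮, h𝔮.1⟩ hle (by
      show Ideal.comap (algebraMap k B) 𝔮 = Ideal.comap (algebraMap k B) 𝔓.asIdeal
      rw [Ideal.eq_bot_of_prime (Ideal.comap (algebraMap k B) 𝔮),
        Ideal.eq_bot_of_prime (Ideal.comap (algebraMap k B) 𝔓.asIdeal)])
    rw [← h1]
  -- the presentation
  have hfe : ∀ x, MvPolynomial.aeval (fun i => φ (X i)) x = φ x := fun x =>
    (AlgHom.congr_fun (MvPolynomial.aeval_unique φ) x).symm
  have hsurj : Function.Surjective (MvPolynomial.aeval (R := k) (fun i => φ (X i))) := by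
    intro b
    obtain ⟨x, rfl⟩ := hφ b
    exact ⟨x, hfe x⟩
  let G : Algebra.Generators k B (Fin r) := Algebra.Generators.ofSurjective _ hsurj
  let E := G.toExtension
  have hkerE : E.ker = Ideal.span (Set.range a) := by
    rw [← hker]
    ext x
    show algebraMap E.Ring B x = 0 ↔ φ x = 0
    rw [show algebraMap E.Ring B x = φ x from hfe x]
  have hamem : ∀ j, a j ∈ E.ker := fun j => hkerE ▸ Ideal.subset_span ⟨j, rfl⟩
  -- the conormal sequence
  have hH1 : Subsingleton (Algebra.H1Cotangent k B) :=
    Groth.Agent.H8.H1LCI.subsingleton_h1Cotangent k B hlci hgs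
  have hH1' : Subsingleton (LinearMap.ker E.cotangentComplex) :=
    G.equivH1Cotangent.toEquiv.subsingleton
  let i : E.Cotangent →ₗ[B] E.CotangentSpace := E.cotangentComplex
  let π : E.CotangentSpace →ₗ[B] Ω[B⁄k] := E.toKaehler
  have hi : Function.Injective i := by
    rw [injective_iff_map_eq_zero]
    intro x hx
    exact congrArg Subtype.val
      (Subsingleton.elim (⟨x, hx⟩ : LinearMap.ker E.cotangentComplex) 0)
  have hπ : Function.Surjective π := E.toKaehler_surjective
  have hex : Function.Exact i π := E.exact_cotangentComplex_toKaehler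
  let bF : Basis (Fin r) B E.CotangentSpace := G.cotangentSpaceBasis
  haveI : Module.Free B E.CotangentSpace := Module.Free.of_basis bF
  haveI : Module.Finite B E.CotangentSpace := Module.Finite.of_basis bF
  -- the basis of the conormal module
  let cc : Fin c → E.Cotangent := fun j => Algebra.Extension.Cotangent.mk ⟨a j, hamem j⟩
  have hccspan : Submodule.span B (Set.range cc) = ⊤ :=
    Algebra.Extension.Cotangent.span_eq_top_of_span_eq_ker (P := E) a hkerE.symm
  have hKR : LCI.IsKoszulRegularSeq E.Ring (List.ofFn a) :=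
    (Groth.Agent.S15821.result _ _ ha.toIsWeaklyRegular).1
  obtain ⟨b0, hb0⟩ := Groth.Agent.Lib.Helper5.KosCot.main (I := E.ker) c
    (fun j => (⟨a j, hamem j⟩ : E.ker)) hKR hkerE.symm
  have hccli : LinearIndependent B cc := by
    rw [Fintype.linearIndependent_iff]
    intro g hg j
    choose p hp using fun j => E.algebraMap_surjective (g j)
    have h1 : ∑ j, p j • cc j = 0 := by
      rw [← hg]
      refine Finset.sum_congr rfl fun j _ => ?_
      rw [← hp j, algebraMap_smul]
    have h2 := congrArg E.cotangentEquivCotangentKer h1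
    rw [map_sum, map_zero] at h2
    have h3 : ∑ j, (Ideal.Quotient.mk E.ker (p j)) • b0 j = 0 := by
      rw [← h2]
      refine Finset.sum_congr rfl fun j _ => ?_
      rw [map_smul, hb0 j]
      rfl
    have h4 := (Fintype.linearIndependent_iff.mp b0.linearIndependent) _ h3 j
    rw [← hp j]
    exact (RingHom.mem_ker).mp (Ideal.Quotient.eq_zero_iff_mem.mp h4)
  let bC : Basis (Fin c) B E.Cotangent := Basis.mk hccli hccspan.ge
  have hbC : ∀ j, bC j = cc j := fun j => Basis.mk_apply hccli hccspan.ge j
  haveI : Nontrivial B := hnt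
  have hcr : c ≤ r := by
    have h1 := LinearMap.finrank_le_finrank_of_injective hi
    rw [Module.finrank_eq_card_basis bC, Module.finrank_eq_card_basis bF, Fintype.card_fin,
      Fintype.card_fin] at h1
    exact h1
  -- the Jacobian matrix
  let rel : Fin c → Fin r → B := fun j => bF.equivFun (i (cc j))
  -- the `Ω` side
  have hxspan : Submodule.span B (Set.range fun i' => π (bF i')) = ⊤ := by
    rw [Set.range_comp', ← Submodule.map_span, bF.span_eq, Submodule.map_top,
      LinearMap.range_eq_top.mpr hπ]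
  have hrelΩ : ∀ z : Fin r → B, (∑ i', z i' • π (bF i') = 0) ↔
      z ∈ Submodule.span B (Set.range rel) := by
    intro z
    have h0 : ∑ i', z i' • π (bF i') = π (bF.equivFun.symm z) := by
      rw [Basis.equivFun_symm_apply, map_sum]
      simp_rw [map_smul]
    rw [h0, hex]
    constructor
    · rintro ⟨y, hy⟩
      have hy' : y ∈ Submodule.span B (Set.range cc) := hccspan ▸ Submodule.mem_top
      obtain ⟨lam, rfl⟩ := (Submodule.mem_span_range_iff_exists_fun B).mp hy'
      have h1 : z = ∑ j, lam j • rel j := by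
        rw [← bF.equivFun.apply_symm_apply z, ← hy, map_sum, map_sum]
        simp_rw [map_smul]
        rfl
      rw [h1]
      exact Submodule.sum_mem _ fun j _ =>
        Submodule.smul_mem _ _ (Submodule.subset_span ⟨j, rfl⟩)
    · intro hz
      obtain ⟨lam, rfl⟩ := (Submodule.mem_span_range_iff_exists_fun B).mp hz
      refine ⟨∑ j, lam j • cc j, ?_⟩
      rw [map_sum, map_sum]
      refine Finset.sum_congr rfl fun j _ => ?_
      rw [map_smul, map_smul, LinearEquiv.symm_apply_apply]
  have hΩ := fitt_eq_span_minors (fun i' => π (bF i')) hxspan rel hrelΩ (r - c) c (by omega)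
  -- the `Ext¹` side
  obtain ⟨q, hqs, hqk⟩ := Groth.Agent.H8.T1BC.exists_ext_one_presentation (Y := B) i π hi hπ hex
  let rel' : Fin r → Fin c → B := fun i' j => rel j i'
  have hicc : ∀ j, i (cc j) = ∑ i', rel j i' • bF i' := by
    intro j
    rw [← Basis.equivFun_symm_apply, LinearEquiv.symm_apply_apply]
  have hyspan : Submodule.span B (Set.range fun j => q (bC.coord j)) = ⊤ := by
    rw [eq_top_iff]
    intro t _
    obtain ⟨f, rfl⟩ := hqs t
    rw [← bC.sum_dual_apply_smul_coord f, map_sum]
    refine Submodule.sum_mem _ fun j _ => ?_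
    rw [map_smul]
    exact Submodule.smul_mem _ _ (Submodule.subset_span ⟨j, rfl⟩)
  have hrelT : ∀ w : Fin c → B, (∑ j, w j • q (bC.coord j) = 0) ↔
      w ∈ Submodule.span B (Set.range rel') := by
    intro w
    have h0 : ∑ j, w j • q (bC.coord j) = q (∑ j, w j • bC.coord j) := by
      rw [map_sum]
      simp_rw [map_smul]
    have hΦ : ∀ j, (∑ j', w j' • bC.coord j') (bC j) = w j := by
      intro j
      rw [LinearMap.sum_apply, Finset.sum_eq_single j]
      · rw [LinearMap.smul_apply, Basis.coord_apply, Basis.repr_self, Finsupp.single_eq_same,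
          smul_eq_mul, mul_one]
      · intro j' _ hne
        rw [LinearMap.smul_apply, Basis.coord_apply, Basis.repr_self,
          Finsupp.single_eq_of_ne hne, smul_zero]
      · intro h
        exact absurd (Finset.mem_univ j) h
    rw [h0, hqk]
    constructor
    · rintro ⟨ψ, hψ⟩
      have h1 : w = ∑ i', ψ (bF i') • rel' i' := by
        funext j
        rw [← hΦ j, ← hψ, LinearMap.comp_apply, hbC j, hicc j, map_sum, Finset.sum_apply]
        refine Finset.sum_congr rfl fun i' _ => ?_
        rw [map_smul, Pi.smul_apply, smul_eq_mul, smul_eq_mul, mul_comm]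
      rw [h1]
      exact Submodule.sum_mem _ fun i' _ =>
        Submodule.smul_mem _ _ (Submodule.subset_span ⟨i', rfl⟩)
    · intro hw
      obtain ⟨mu, rfl⟩ := (Submodule.mem_span_range_iff_exists_fun B).mp hw
      refine ⟨bF.constr B mu, ?_⟩
      refine bC.ext fun j => ?_
      rw [hΦ j, LinearMap.comp_apply, hbC j, hicc j, map_sum, Finset.sum_apply]
      refine Finset.sum_congr rfl fun i' _ => ?_
      rw [map_smul, Basis.constr_basis, Pi.smul_apply, smul_eq_mul, smul_eq_mul, mul_comm]
  have hT := fitt_eq_span_minors (fun j => q (bC.coord j)) hyspan rel' hrelT 0 c (Nat.sub_zero c)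
  rw [hΩ, hT]
  congr 1
  ext d
  constructor
  · rintro ⟨ρ, e, rfl⟩
    refine ⟨e, ρ, ?_⟩
    rw [← Matrix.det_transpose]
    rfl
  · rintro ⟨ρ', e', rfl⟩
    refine ⟨e', ρ', ?_⟩
    rw [← Matrix.det_transpose]
    rfl

end main

end Groth.Agent.H8.FittExt
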